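import Groth.Agent.FrobSplit.Finrank
import Groth.Agent.Nakai.UnifReg
import Groth.Agent.Nakai.CartierMul
import Groth.Agent.SerrePn.ClosedStatements
import Groth.Agent.S2122
import Groth.Agent.CohQC.Restrict
import Groth.Agent.DerPerf.Local
import Groth.Agent.CurveRR.Curve

/-!
# Vanishing of high negative ample powers under a depth hypothesis
-/

set_option autoImplicit false
set_option linter.style.haveILetI false
set_option linter.unusedSectionVars false
set_option backward.isDefEq.respectTransparency false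
set_option backward.isDefEq.respectTransparency.types false

universe u

open CategoryTheory CategoryTheory.Limits AlgebraicGeometry Opposite Abelian
open Groth.Agent.Nakai (cl_tensor cl_pow cl_one iso_of_cl)

noncomputable section

namespace Groth.Agent.LefDiv

attribute [local instance] Groth.Agent.Nakai.clMonoid

variable (k : Type u) [Field k] {X : Scheme.{u}} [X.Over (Spec (CommRingCat.of k))]
  [IsProper (X ↘ Spec (CommRingCat.of k))]

include k in
/-- High negative powers of an ample module have no cohomology below the depth. -/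
theorem exists_vanishing (q : ℕ)
    (hdepth : ∀ x : X, IsClosed ({x} : Set X) → (q : ℕ∞) ≤ LocCoh.depth (X.presheaf.stalk x) (X.presheaf.stalk x))
    {L Linv : X.Modules} (hL : CohB1.IsAmple L) (hi : PicF.IsInvertible Linv) (hinv : ClSub.IsInverseOf Linv L) :
    ∃ m₀ : ℕ, ∀ m, m₀ ≤ m → ∀ j, j < q → Subsingleton (Coh.HH X (CohB1.tensorPow Linv m) j) := by
  haveI : IsLocallyNoetherian X := LocallyOfFiniteType.isLocallyNoetherian (X ↘ Spec (CommRingCat.of k))
  obtain ⟨N, d, r, hd, hr, hrc, ⟨e⟩⟩ :=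
    AmpleEmb.exists_closedImmersion_projSpace (X ↘ Spec (CommRingCat.of k)) hL
  haveI := hrc
  have hflf : ∀ s : ℕ, FlatMod.IsFinLocFree (CohB1.tensorPow Linv s) := fun s y =>
    let ⟨U, hU, h⟩ := CurveRR.isFinLocFreeOfRank_one (FrobSplit.isInvertible_tensorPow hi s) y; ⟨U, 1, hU, h⟩
  have hcoh : ∀ s : ℕ, Coh.IsCoh (CohB1.tensorPow Linv s) := fun s => K0Coh.isCoh_of_isFinLocFree (hflf s)
  have hvan : ∀ s : Fin d, ∃ m₀ : ℤ, ∀ m : ℤ, m₀ ≤ m → ∀ j, j < q → Subsingleton (Coh.HH X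
      (CohB1.tensorMod (CohB1.tensorPow Linv s) (SerrePn.Lx r (-m))) j) := fun s => by
    obtain ⟨a, ha⟩ := SerrePn.exists_uniform ((SerrePn.van_push_iff r (hcoh s) q).2 fun x hx => by
      haveI := RegDual.finite_stalk (hcoh s) x
      haveI := LocFree.free_stalk_of_isFinLocFree (hflf s) x
      exact SerrePn.le_depth_free (hdepth x hx) _)
    exact ⟨a, fun m hm j hj => (SerrePn.hh_twist_iff r hr _ (hcoh s) _ j).2 (ha m hm j hj)⟩
  choose q₀ hq₀ using hvan
  refine ⟨d * (∑ s, (q₀ s).toNat + 1), fun m hm j hj => ?_⟩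
  let s : Fin d := ⟨m % d, Nat.mod_lt _ hd⟩
  have hq : q₀ s ≤ ((m / d : ℕ) : ℤ) := by
    refine (Int.self_le_toNat _).trans (Int.ofNat_le.2 ?_)
    refine (Finset.single_le_sum (fun i _ => Nat.zero_le (q₀ i).toNat) (Finset.mem_univ s)).trans ?_
    rw [Nat.le_div_iff_mul_le hd]
    nlinarith
  have h := hq₀ s _ hq j hj
  have h1 : PicF.cl Linv * PicF.cl L = 1 := by
    rw [← cl_tensor, ← cl_one]
    exact (PicGrp.cl_eq_cl_iff _ _).2 hinv
  have h2 : PicF.cl ((Scheme.Modules.pullback r).obj (Twist.twistProjSpace N k ((m / d : ℕ) : ℤ))) =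
      PicF.cl L ^ (d * (m / d)) := by
    rw [Nakai.cl_pull_twist, (PicGrp.cl_eq_cl_iff _ _).2 ⟨e⟩, cl_pow, ← pow_mul]
  have h3 : PicF.cl ((Scheme.Modules.pullback r).obj (Twist.twistProjSpace N k ((m / d : ℕ) : ℤ))) *
      PicF.cl (SerrePn.Lx r (-((m / d : ℕ) : ℤ))) = 1 := by
    obtain ⟨e0⟩ := SerrePn.exists_thetaX r ((m / d : ℕ) : ℤ) (-((m / d : ℕ) : ℤ)) (add_neg_cancel _)
    rw [← cl_tensor, ← cl_one]
    exact (PicGrp.cl_eq_cl_iff _ _).2 ⟨e0⟩
  have h4 : PicF.cl (CohB1.tensorMod (CohB1.tensorPow Linv s) (SerrePn.Lx r (-((m / d : ℕ) : ℤ)))) =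
      PicF.cl (CohB1.tensorPow Linv m) := by
    rw [h2] at h3
    have h5 : PicF.cl Linv ^ (d * (m / d)) * PicF.cl L ^ (d * (m / d)) = 1 := by
      rw [← mul_pow, h1, one_pow]
    rw [cl_tensor, cl_pow, cl_pow, ← left_inv_eq_right_inv h5 h3, ← pow_add]
    exact congrArg (PicF.cl Linv ^ ·) (Nat.mod_add_div m d)
  exact CohQC.hh_subsingleton_of_iso (iso_of_cl h4).some j h

/-- The ideal module of a power of an invertible ideal is the power of the ideal module. -/
theorem idealMod_pow {I : X.IdealSheafData} (hI : BlowUp.IsEffCartierIdeal I) : ∀ m : ℕ,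
    BlowUp.IsEffCartierIdeal (I ^ (m + 1)) ∧
      PicF.cl (ClSub.idealMod (I ^ (m + 1))) = PicF.cl (ClSub.idealMod I) ^ (m + 1)
  | 0 => by simp only [zero_add, pow_one]; exact ⟨hI, trivial⟩
  | m + 1 => by
    obtain ⟨h1, h2⟩ := idealMod_pow hI m
    rw [show I ^ (m + 1 + 1) = I ^ (m + 1) * I from pow_succ I (m + 1)]
    refine ⟨BlowUpLib.cartier_mul h1 hI, ?_⟩
    rw [← (PicGrp.cl_eq_cl_iff _ _).2 (Nakai.nonempty_idealMod_mul h1 hI), cl_tensor, h2,
      pow_succ (PicF.cl (ClSub.idealMod I)) (m + 1)]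

/-- Long exact sequence consequences for the ideal sequence. -/
theorem injective_of_vanish (J : X.IdealSheafData) (i : ℕ)
    (h : Subsingleton (Coh.HH X (ClSub.idealMod J) i)) :
    Function.Injective (Sheaf.H.map ((SheafOfModules.toSheaf X.ringCatSheaf).map (ClSub.toSubscheme J)) i) := by
  have hS := (CurveRR.ideal_shortExact J).map_of_exact (SheafOfModules.toSheaf X.ringCatSheaf)
  haveI := h
  refine (injective_iff_map_eq_zero _).2 fun x hx => ?_
  obtain ⟨x₁, hx₁⟩ := Ext.covariant_sequence_exact₂ _ hS x hx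
  rw [Subsingleton.elim (α := Coh.HH X (ClSub.idealMod J) i) x₁ (0 : Coh.HH X (ClSub.idealMod J) i)] at hx₁
  exact hx₁.symm.trans (map_zero (Sheaf.H.map ((SheafOfModules.toSheaf X.ringCatSheaf).map (ClSub.idealModι J)) i))

theorem surjective_of_vanish (J : X.IdealSheafData) (i : ℕ)
    (h : Subsingleton (Coh.HH X (ClSub.idealMod J) (i + 1))) :
    Function.Surjective (Sheaf.H.map ((SheafOfModules.toSheaf X.ringCatSheaf).map (ClSub.toSubscheme J)) i) := by
  have hS := (CurveRR.ideal_shortExact J).map_of_exact (SheafOfModules.toSheaf X.ringCatSheaf)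
  haveI := h
  intro y
  obtain ⟨x, hx⟩ := Ext.covariant_sequence_exact₃ _ hS y (n₁ := i + 1) rfl
    (Subsingleton.elim (α := Coh.HH X (ClSub.idealMod J) (i + 1)) _ _)
  exact ⟨x, hx⟩

include k in
theorem exists_bound {I : X.IdealSheafData} {L : X.Modules} (hL : ClSub.IsInverseOf L (ClSub.idealMod I))
    (hamp : CohB1.IsAmple L) (q : ℕ)
    (hdepth : ∀ x : X, IsClosed ({x} : Set X) → (q : ℕ∞) ≤ LocCoh.depth (X.presheaf.stalk x) (X.presheaf.stalk x)) :
    ∃ m₀ : ℕ, ∀ m : ℕ, m₀ ≤ m → ∀ j, j < q → Subsingleton (Coh.HH X (ClSub.idealMod (I ^ (m + 1))) j) := by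
  haveI : IsLocallyNoetherian X := LocallyOfFiniteType.isLocallyNoetherian (X ↘ Spec (CommRingCat.of k))
  obtain ⟨e⟩ := hL
  have e' : CohB1.tensorMod (ClSub.idealMod I) L ≅ Coh.structureModule X := TMul.commIso _ _ ≪≫ e
  have hi : PicF.IsInvertible (ClSub.idealMod I) := Groth.Agent.S2122.result _ _ e'
  have hC := (Groth.Agent.S8914.result I).1 hi
  obtain ⟨m₀, hm₀⟩ := exists_vanishing k q hdepth hamp hi ⟨e'⟩
  refine ⟨m₀, fun m hm j hj => CohQC.hh_subsingleton_of_iso (iso_of_cl ?_).some j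
    (hm₀ (m + 1) (by omega) j hj)⟩
  rw [cl_pow, (idealMod_pow hC m).2]

end Groth.Agent.LefDiv
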