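import Groth.Agent.CMFlat.Scheme
import Groth.Agent.Purity.DepthPair
import Groth.Agent.ResDesc.CartierFam
import Groth.Agent.TMul.RelAmple
import Groth.Agent.S9694
import Groth.Agent.S2122
import Mathlib.AlgebraicGeometry.Morphisms.QuasiFinite

/-!
# Closed sets avoiding an ample divisor
-/

set_option autoImplicit false
set_option linter.style.haveILetI false
set_option linter.unusedSectionVars false
set_option backward.isDefEq.respectTransparency false
set_option backward.isDefEq.respectTransparency.types false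

universe u

open CategoryTheory CategoryTheory.Limits AlgebraicGeometry TopologicalSpace RingTheory.Sequence IsLocalRing

noncomputable section

namespace Groth.Agent.LefDiv

theorem le_depth_of_fibre_depth {R S : Type u} [CommRing R] [IsNoetherianRing R] [IsLocalRing R] [CommRing S]
    [IsNoetherianRing S] [IsLocalRing S] [Algebra R S] [Module.Flat R S] [IsLocalHom (algebraMap R S)]
    {d : ℕ} [IsLocalRing (S ⧸ (maximalIdeal R).map (algebraMap R S))]
    (hd' : (d : ℕ∞) ≤ LocCoh.depth (S ⧸ (maximalIdeal R).map (algebraMap R S))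
      (S ⧸ (maximalIdeal R).map (algebraMap R S))) :
    (d : ℕ∞) ≤ LocCoh.depth S S := by
  obtain ⟨rF, hlF, hwF, hmF⟩ := SerreReg.exists_list_of_hasRegSeq d (CMSop.hasRegSeq_of_depth hd')
  obtain ⟨y, rfl⟩ : ∃ y : List S, y.map (Ideal.Quotient.mk _) = rF :=
    ⟨rF.map (Function.surjInv Ideal.Quotient.mk_surjective), by
      rw [List.map_map]; exact List.map_id'' (Function.surjInv_eq _) rF⟩
  have hy : IsWeaklyRegular (S ⧸ ((maximalIdeal R).map (algebraMap R S) • (⊤ : Submodule S S))) y := by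
    refine ((Submodule.quotEquivOfEq _ _ (show ((maximalIdeal R).map (algebraMap R S) • ⊤ : Submodule S S) =
      (maximalIdeal R).map (algebraMap R S) by rw [smul_eq_mul, Ideal.mul_top])).isWeaklyRegular_congr y).2 ?_
    exact (isWeaklyRegular_map_algebraMap_iff (S := S ⧸ (maximalIdeal R).map (algebraMap R S)) _ y).1
      (by rw [Ideal.Quotient.algebraMap_eq]; exact hwF)
  obtain ⟨hyw, -⟩ := InjFibre.regSeq_noeth (A := R) S y hy
  rw [LocCoh.depth, LocCoh.idealDepth, if_neg (by
    rw [smul_eq_mul, Ideal.mul_top]; exact (maximalIdeal.isMaximal S).ne_top)]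
  refine le_iSup₂_of_le y ⟨hyw, fun r hr => ?_⟩ (by rw [← hlF, List.length_map])
  have := hmF _ (List.mem_map_of_mem (f := Ideal.Quotient.mk _) hr)
  rw [IsLocalRing.mem_maximalIdeal, mem_nonunits_iff] at this ⊢
  exact fun hu => this (hu.map _)

theorem le_depth_stalk_of_fibre {X Y : Scheme.{u}} (f : X ⟶ Y) [IsLocallyNoetherian X] [IsLocallyNoetherian Y]
    [Flat f] {d : ℕ} (x : X)
    (hd : (d : ℕ∞) ≤ LocCoh.depth ((f.fiber (f x)).presheaf.stalk (f.asFiber x))
      ((f.fiber (f x)).presheaf.stalk (f.asFiber x))) :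
    (d : ℕ∞) ≤ LocCoh.depth (X.presheaf.stalk x) (X.presheaf.stalk x) := by
  letI := (f.stalkMap x).hom.toAlgebra
  haveI : Module.Flat (Y.presheaf.stalk (f x)) (X.presheaf.stalk x) := Flat.stalkMap f x
  haveI : IsLocalHom (algebraMap (Y.presheaf.stalk (f x)) (X.presheaf.stalk x)) :=
    inferInstanceAs (IsLocalHom (f.stalkMap x).hom)
  obtain ⟨e⟩ := CMFlat.nonempty_fiberStalk_equiv f x
  haveI : Nontrivial (X.presheaf.stalk x ⧸ (maximalIdeal (Y.presheaf.stalk (f x))).map
      (algebraMap (Y.presheaf.stalk (f x)) (X.presheaf.stalk x))) := e.toEquiv.nontrivial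
  haveI : IsLocalRing (X.presheaf.stalk x ⧸ (maximalIdeal (Y.presheaf.stalk (f x))).map
      (algebraMap (Y.presheaf.stalk (f x)) (X.presheaf.stalk x))) :=
    IsLocalRing.of_surjective' _ Ideal.Quotient.mk_surjective
  haveI : IsNoetherianRing ((f.fiber (f x)).presheaf.stalk (f.asFiber x)) := isNoetherianRing_of_ringEquiv _ e
  refine le_depth_of_fibre_depth (R := Y.presheaf.stalk (f x)) ?_
  haveI : IsLocalRing (X.presheaf.stalk x ⧸ (maximalIdeal (Y.presheaf.stalk (f x))).map (f.stalkMap x).hom) := ‹IsLocalRing (X.presheaf.stalk x ⧸ _)›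
  exact hd.trans_eq (Purity.depth_eq_of_ringEquiv e)

/-- Points of a closed set avoiding an ample divisor are closed in their fibres over an affine base. -/
theorem isClosed_asFiber_of_disjoint {X S : Scheme.{u}} [IsAffine S] (f : X ⟶ S) [IsProper f]
    (I : X.IdealSheafData) (L : X.Modules) (hL : ClSub.IsInverseOf L (ClSub.idealMod I))
    (hamp : CohB1.IsAmple L) (Z : Set X) (hZ : IsClosed Z) (hZY : Disjoint Z (I.support : Set X))
    (z : X) (hz : z ∈ Z) : IsClosed ({f.asFiber z} : Set ↥(f.fiber (f z))) := by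
  obtain ⟨e⟩ := hL
  have hI : BlowUp.IsEffCartierIdeal I :=
    (Groth.Agent.S8914.result I).1 (Groth.Agent.S2122.result _ _ (TMul.commIso _ _ ≪≫ e))
  obtain ⟨σ, hσ⟩ := ResDesc.exists_section_of_inverse I hI hamp.1 e
  haveI := Groth.Agent.S9694.result f L ((TMul.isRelAmple_iff_isAmple (f := f) (L := L)).2 hamp) σ
  let W := CohB1.genLocus L σ
  let J := Scheme.IdealSheafData.vanishingIdeal ⟨Z, hZ⟩
  have hrange : Set.range J.subschemeι = Z := by
    rw [Scheme.IdealSheafData.range_subschemeι, Scheme.IdealSheafData.coe_support_vanishingIdeal]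
    rfl
  have hle : Set.range J.subschemeι ⊆ Set.range W.ι := by
    rw [Scheme.Opens.range_ι, hrange]
    intro w hw
    show w ∈ CohB1.genLocus L σ
    rw [hσ]
    exact Set.disjoint_left.1 hZY hw
  let j := IsOpenImmersion.lift W.ι J.subschemeι hle
  have hj : j ≫ W.ι = J.subschemeι := IsOpenImmersion.lift_fac _ _ _
  haveI : IsClosedImmersion (j ≫ W.ι) := by rw [hj]; infer_instance
  haveI : IsClosedImmersion j := IsClosedImmersion.of_comp j W.ι
  haveI : IsAffineHom (J.subschemeι ≫ f) := by rw [← hj, Category.assoc]; infer_instance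
  haveI : IsFinite (J.subschemeι ≫ f) := IsFinite.iff_isProper_and_isAffineHom.2 ⟨inferInstance, inferInstance⟩
  rw [← closure_subset_iff_isClosed]
  intro w hw
  have h1 : z ⤳ f.fiberι (f z) w := by
    have := (specializes_iff_mem_closure.2 hw).map (f.fiberι (f z)).continuous
    rwa [Scheme.Hom.fiberι_asFiber] at this
  have hwf : f (f.fiberι (f z) w) = f z := by
    have : f.fiberι (f z) w ∈ Set.range (f.fiberι (f z)) := ⟨w, rfl⟩
    rwa [Scheme.Hom.range_fiberι] at this
  obtain ⟨w', hw'⟩ : f.fiberι (f z) w ∈ Set.range J.subschemeι := by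
    rw [hrange]; exact h1.mem_closed hZ hz
  obtain ⟨z', hz'⟩ : z ∈ Set.range J.subschemeι := by rw [hrange]; exact hz
  have h2 : z' ⤳ w' := J.subschemeι.isClosedEmbedding.isInducing.specializes_iff.1 (by rw [hz', hw']; exact h1)
  have hd := (J.subschemeι ≫ f).isDiscrete_preimage_singleton (f z)
  have hzm : z' ∈ (J.subschemeι ≫ f) ⁻¹' {f z} := by
    simp [hz']
  have hwm : w' ∈ (J.subschemeι ≫ f) ⁻¹' {f z} := by
    simp [hw', hwf]
  haveI := hd.to_subtype
  have h3 : (⟨z', hzm⟩ : ↥((J.subschemeι ≫ f) ⁻¹' {f z})) ⤳ ⟨w', hwm⟩ :=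
    Topology.IsInducing.subtypeVal.specializes_iff.1 h2
  have h4 : z' = w' := congrArg Subtype.val h3.eq
  refine (f.fiberι (f z)).isEmbedding.injective ?_
  rw [Scheme.Hom.fiberι_asFiber, ← hw', ← h4, hz']

end Groth.Agent.LefDiv
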