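import Groth.Agent.LefDiv.Formal
import Groth.Agent.LefDiv.Finite
import Groth.Agent.DepthExtend.Basic
import Groth.Agent.ParaFLib.Ext
import Groth.Agent.ParaFLib.Unit
import Groth.Agent.ThickSys.Sheaf
import Groth.Agent.QC.Extend
import Groth.Agent.QC.IdealMod

/-!
# The Lefschetz condition for an ample divisor
-/

set_option autoImplicit false
set_option linter.style.haveILetI false
set_option linter.unusedSectionVars false
set_option backward.isDefEq.respectTransparency false
set_option backward.isDefEq.respectTransparency.types false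

universe u

open CategoryTheory CategoryTheory.Limits AlgebraicGeometry TopologicalSpace Opposite
open Groth.Agent.QC (res app_res section_eq_of_locally mem_range_kernel_app mem_range_idealModι_affine)

noncomputable section

namespace Groth.Agent.LefDiv

variable {X : Scheme.{u}}

theorem bijective_restrict_of_secBij {U : X.Opens} {F G : X.Modules} (h : ParaFLib.SecBij U G) :
    Function.Bijective (fun φ : F ⟶ G => (Scheme.Modules.restrictFunctor U.ι).map φ) := by
  let adj := Scheme.Modules.restrictAdjunction U.ι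
  haveI := ParaFLib.isIso_unit_app U.ι (M := G) (by rwa [Scheme.Opens.opensRange_ι])
  let e : (F ⟶ G) ≃ ((Scheme.Modules.restrictFunctor U.ι).obj F ⟶ (Scheme.Modules.restrictFunctor U.ι).obj G) :=
    ((asIso (adj.unit.app G)).homToEquiv (Z := F)).trans (adj.homEquiv _ _).symm
  have he : (fun φ : F ⟶ G => (Scheme.Modules.restrictFunctor U.ι).map φ) = e := funext fun φ => by
    apply (adj.homEquiv _ _).injective
    show _ = adj.homEquiv _ _ ((adj.homEquiv _ _).symm (φ ≫ adj.unit.app G))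
    rw [Equiv.apply_symm_apply, Adjunction.homEquiv_unit]
    exact (adj.unit.naturality φ).symm
  rw [he]
  exact e.bijective

theorem secBij_quotMod {U : X.Opens} {J : X.IdealSheafData} (h : (J.support : Set X) ⊆ (U : Set X)) :
    ParaFLib.SecBij U (ClSub.quotMod J) := fun V => by
  have e : J.subschemeι ⁻¹ᵁ (V ⊓ U) = J.subschemeι ⁻¹ᵁ V := by
    refine Opens.ext (Set.ext fun z => ⟨fun hz => hz.1, fun hz => ⟨hz, h ?_⟩⟩)
    rw [← J.range_subschemeι]
    exact ⟨z, rfl⟩
  haveI : IsIso ((Opens.map J.subschemeι.base).map (homOfLE (inf_le_left : V ⊓ U ≤ V))) := by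
    rw [Subsingleton.elim ((Opens.map J.subschemeι.base).map (homOfLE (inf_le_left : V ⊓ U ≤ V))) (eqToHom e)]
    infer_instance
  exact ConcreteCategory.bijective_of_isIso
    (J.subscheme.presheaf.map ((Opens.map J.subschemeι.base).map (homOfLE (inf_le_left : V ⊓ U ≤ V))).op)

/-- `O_U → O_X|_U`. -/
def oneU (U : X.Opens) : Coh.structureModule (U : Scheme.{u}) ⟶ (Coh.structureModule X).restrict U.ι :=
  InvGen.ofGen U.ι (Coh.structureModule X) (U := ⊤) le_top (ParaFLib.oneSec X ⊤)

theorem oneU_app (U : X.Opens) (W : (U : Scheme.{u}).Opens) (r : Γ(U, W)) :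
    (oneU U).app W r = (show Γ(X, U.ι ''ᵁ W) from (U.ι.appIso W).inv.hom r) := by
  show ((U.ι.appIso W).inv.hom r) • res (Coh.structureModule X)
    ((U.ι.image_le_opensRange W).trans le_top) (ParaFLib.oneSec X ⊤) = _
  rw [show res (Coh.structureModule X) ((U.ι.image_le_opensRange W).trans le_top) (ParaFLib.oneSec X ⊤) =
    ParaFLib.oneSec X (U.ι ''ᵁ W) from map_one (X.presheaf.map _).hom]
  exact mul_one ((U.ι.appIso W).inv.hom r)

instance isIso_oneU (U : X.Opens) : IsIso (oneU U) := by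
  rw [Scheme.Modules.Hom.isIso_iff_isIso_app]
  intro W
  rw [ConcreteCategory.isIso_iff_bijective]
  exact (ParaFLib.isGen_one X (U.ι ''ᵁ W) le_top).comp (ConcreteCategory.bijective_of_isIso (U.ι.appIso W).inv)

/-- The restricted quotient map. -/
def gR (U : X.Opens) (J : X.IdealSheafData) :
    Coh.structureModule (U : Scheme.{u}) ⟶ (ClSub.quotMod J).restrict U.ι :=
  oneU U ≫ (Scheme.Modules.restrictFunctor U.ι).map (ClSub.toSubscheme J)

instance epi_gR (U : X.Opens) (J : X.IdealSheafData) : Epi (gR U J) := by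
  haveI : Epi ((Scheme.Modules.restrictFunctor U.ι).map (ClSub.toSubscheme J)) := by
    haveI := (Scheme.Modules.restrictAdjunction U.ι).isLeftAdjoint
    exact Functor.map_epi _ _
  exact epi_comp _ _

theorem gR_app_eq_zero_iff (U : X.Opens) (J : X.IdealSheafData) (W : (U : Scheme.{u}).affineOpens)
    (r : Γ(U, W.1)) : (gR U J).app W.1 r = 0 ↔ r ∈ (J.comap U.ι).ideal W := by
  rw [Scheme.IdealSheafData.ideal_comap_of_isOpenImmersion, Ideal.mem_comap,
    ← mem_range_idealModι_affine J ⟨U.ι ''ᵁ W.1, W.2.image_of_isOpenImmersion U.ι⟩]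
  refine (Iff.trans ?_ (mem_range_kernel_app (ClSub.toSubscheme J) _ _).symm)
  show (ClSub.toSubscheme J).app (U.ι ''ᵁ W.1) ((oneU U).app W.1 r) = 0 ↔ _
  rw [oneU_app]

theorem exists_quot_iso (U : X.Opens) (J : X.IdealSheafData) {J' : (U : Scheme.{u}).IdealSheafData}
    (hJ : J.comap U.ι = J') :
    ∃ t : (ClSub.quotMod J).restrict U.ι ⟶ ClSub.quotMod J', IsIso t ∧ gR U J ≫ t = ClSub.toSubscheme J' := by
  subst hJ
  set J' := J.comap U.ι
  have h1 : kernel.ι (gR U J) ≫ ClSub.toSubscheme J' = 0 := by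
    refine Scheme.Modules.hom_ext _ _ fun O => ?_
    ext s
    show (ClSub.toSubscheme J').app O ((kernel.ι (gR U J)).app O s) = 0
    refine section_eq_of_locally fun x hx => ?_
    obtain ⟨V, hV, hxV, hVO⟩ := exists_isAffineOpen_mem_and_subset hx
    refine ⟨V, hVO, hxV, ?_⟩
    rw [map_zero, app_res, app_res]
    exact (mem_range_kernel_app (ClSub.toSubscheme J') V _).1 ((mem_range_idealModι_affine J' ⟨V, hV⟩ _).2
      ((gR_app_eq_zero_iff U J ⟨V, hV⟩ _).1 ((mem_range_kernel_app (gR U J) V _).1 ⟨_, rfl⟩)))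
  have h2 : kernel.ι (ClSub.toSubscheme J') ≫ gR U J = 0 := by
    refine Scheme.Modules.hom_ext _ _ fun O => ?_
    ext s
    show (gR U J).app O ((kernel.ι (ClSub.toSubscheme J')).app O s) = 0
    refine section_eq_of_locally fun x hx => ?_
    obtain ⟨V, hV, hxV, hVO⟩ := exists_isAffineOpen_mem_and_subset hx
    refine ⟨V, hVO, hxV, ?_⟩
    rw [map_zero, app_res, app_res]
    refine (gR_app_eq_zero_iff U J ⟨V, hV⟩ _).2 ?_
    exact (mem_range_idealModι_affine J' ⟨V, hV⟩ _).1
      ⟨res (ClSub.idealMod J') hVO s, rfl⟩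
  refine ⟨Abelian.epiDesc (gR U J) (ClSub.toSubscheme J') h1, ⟨Abelian.epiDesc (ClSub.toSubscheme J') (gR U J) h2, ?_, ?_⟩,
    Abelian.comp_epiDesc _ _ _⟩
  · rw [← cancel_epi (gR U J), ← Category.assoc, Abelian.comp_epiDesc, Abelian.comp_epiDesc, Category.comp_id]
  · rw [← cancel_epi (ClSub.toSubscheme J'), ← Category.assoc, Abelian.comp_epiDesc, Abelian.comp_epiDesc,
      Category.comp_id]

theorem homToFormal_restrict [IsLocallyNoetherian X] (U : X.Opens) {I : X.IdealSheafData}
    (hI : (I.support : Set X) ⊆ (U : Set X))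
    (hdep : ∀ x : X, x ∉ U → (2 : ℕ∞) ≤ LocCoh.depth (X.presheaf.stalk x) (X.presheaf.stalk x))
    {F : X.Modules} (h : Lef.HomToFormalBijective I F) :
    Lef.HomToFormalBijective (I.comap U.ι) ((Scheme.Modules.restrictFunctor U.ι).obj F) := by
  let R := Scheme.Modules.restrictFunctor U.ι
  choose t hti ht using fun n : ℕ => exists_quot_iso U (I ^ (n + 1)) (ThickSys.comap_pow I U.ι (n + 1))
  haveI := hti
  have hR : Function.Bijective fun φ : F ⟶ Coh.structureModule X => R.map φ :=
    DepthExtend.bijective_restrict_hom U _ F RefStalk.isCoh_structureModule fun x hx =>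
      (hdep x hx).trans_eq (DepthExtend.depth_structureModule x).symm
  have hS : ∀ n : ℕ, Function.Bijective fun η : F ⟶ ClSub.quotMod (I ^ (n + 1)) => R.map η := fun n =>
    bijective_restrict_of_secBij (secBij_quotMod (by
      intro x hx
      refine hI ?_
      rw [Scheme.IdealSheafData.support_pow _ _ n.succ_ne_zero] at hx
      exact hx))
  have hcomp : ∀ (φ : F ⟶ Coh.structureModule X) (n : ℕ),
      (R.map φ ≫ inv (oneU U)) ≫ ClSub.toSubscheme ((I.comap U.ι) ^ (n + 1)) =
        R.map (φ ≫ ClSub.toSubscheme (I ^ (n + 1))) ≫ t n := fun φ n => by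
    rw [← ht n, gR, Category.assoc, Category.assoc, IsIso.inv_hom_id_assoc, R.map_comp, Category.assoc]
  have hq : ∀ n : ℕ, t (n + 1) ≫ Lef.quotMap (Lef.pow_succ_le (I.comap U.ι) n) =
      R.map (Lef.quotMap (Lef.pow_succ_le I n)) ≫ t n := fun n => by
    rw [← cancel_epi (gR U (I ^ (n + 1 + 1))), ← Category.assoc, ht (n + 1), toSubscheme_quotMap, ← ht n, gR, gR,
      Category.assoc, Category.assoc, ← R.map_comp_assoc, toSubscheme_quotMap]
  refine ⟨fun φ ψ hn => ?_, fun y hy => ?_⟩
  · obtain ⟨φ₀, hφ⟩ := hR.2 (φ ≫ oneU U)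
    obtain ⟨ψ₀, hψ⟩ := hR.2 (ψ ≫ oneU U)
    have eφ : R.map φ₀ ≫ inv (oneU U) = φ := by rw [show R.map φ₀ = φ ≫ oneU U from hφ]; simp
    have eψ : R.map ψ₀ ≫ inv (oneU U) = ψ := by rw [show R.map ψ₀ = ψ ≫ oneU U from hψ]; simp
    rw [← eφ, ← eψ, h.1 φ₀ ψ₀ fun n => (hS n).1 ((cancel_mono (t n)).1 (by
      rw [← hcomp, ← hcomp, eφ, eψ]; exact hn n))]
  · choose y₀ hy₀ using fun n => (hS n).2 (y n ≫ inv (t n))
    have ey : ∀ n, R.map (y₀ n) ≫ t n = y n := fun n => by
      rw [show R.map (y₀ n) = y n ≫ inv (t n) from hy₀ n]; simp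
    obtain ⟨φ, hφ⟩ := h.2 y₀ fun n => (hS n).1 ((cancel_mono (t n)).1 (by
      show R.map (y₀ (n + 1) ≫ Lef.quotMap (Lef.pow_succ_le I n)) ≫ t n = R.map (y₀ n) ≫ t n
      rw [R.map_comp, Category.assoc, ← hq, ← Category.assoc, ey, ey, hy n]))
    exact ⟨R.map φ ≫ inv (oneU U), fun n => by rw [hcomp, hφ n, ey]⟩

/-- Lef(X, Y) for an ample divisor on a proper scheme of depth at least two at its closed points. -/
theorem lefCond (k : Type u) [Field k] [X.Over (Spec (CommRingCat.of k))] [IsProper (X ↘ Spec (CommRingCat.of k))]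
    {I : X.IdealSheafData} {L : X.Modules} (hL : ClSub.IsInverseOf L (ClSub.idealMod I)) (hamp : CohB1.IsAmple L)
    (hdepth : ∀ x : X, IsClosed ({x} : Set X) → (2 : ℕ∞) ≤ LocCoh.depth (X.presheaf.stalk x) (X.presheaf.stalk x)) :
    Lef.LefCond X I := by
  intro U hU D hD
  haveI : IsLocallyNoetherian X := LocallyOfFiniteType.isLocallyNoetherian (X ↘ Spec (CommRingCat.of k))
  haveI : CompactSpace ↥X := QuasiCompact.compactSpace_of_compactSpace (X ↘ Spec (CommRingCat.of k))
  haveI : IsNoetherian X := ⟨⟩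
  let f := X ↘ Spec (CommRingCat.of k)
  have hdep : ∀ x : X, x ∉ U → (2 : ℕ∞) ≤ LocCoh.depth (X.presheaf.stalk x) (X.presheaf.stalk x) := fun x hx => by
    refine hdepth x ?_
    have hc := isClosed_asFiber_of_disjoint f I L hL hamp (U : Set X)ᶜ U.2.isClosed_compl
      (Set.disjoint_left.2 fun w hw hwI => hw (hU hwI)) x hx
    have hsurj : Set.range (f.fiberι (f x)) = Set.univ := by
      rw [Scheme.Hom.range_fiberι]
      exact Set.eq_univ_of_forall fun w => Subsingleton.elim (α := ↥(Spec (CommRingCat.of k))) _ _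
    have hemb : Topology.IsClosedEmbedding (f.fiberι (f x)) :=
      ⟨(f.fiberι (f x)).isEmbedding, by rw [hsurj]; exact isClosed_univ⟩
    have := hemb.isClosedMap _ hc
    rwa [Set.image_singleton, Scheme.Hom.fiberι_asFiber] at this
  have hDc : Coh.IsCoh D :=
    ⟨LocFree.isQCoh_of_isFinLocFree hD, LocFree.isFT_of_isFinLocFree hD⟩
  haveI := hDc.1
  haveI : ((Scheme.Modules.pushforward U.ι).obj D).IsQuasicoherent := Groth.Agent.QC.isQCoh_pushforward U.ι
  let u : D ≅ ((Scheme.Modules.pushforward U.ι).obj D).restrict U.ι :=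
    (asIso ((Scheme.Modules.restrictAdjunction U.ι).counit.app D)).symm
  obtain ⟨D', i', e, -, hq, hft, -⟩ := Groth.Agent.QC.exists_ft_extension
    (fun x => ⟨⊤, trivial, by
      haveI : NoetherianSpace ↥X := inferInstance
      infer_instance⟩) U D u.hom hDc.2
  exact homToFormal_of_iso e (homToFormal_restrict U hU hdep (homToFormal_coherent k hL hamp hdepth D' ⟨hq, hft⟩))

end Groth.Agent.LefDiv
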