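import Groth.Agent.LefDiv.Vanish
import Groth.Agent.Higgs.Secant
import Groth.Agent.CohFinite.AmpleFinite
import Groth.Agent.TMul.Pullback
import Groth.Prelude.Def_Lef

/-!
# Morphisms to the structure sheaf and to its completion along an ample divisor
-/

set_option autoImplicit false
set_option linter.style.haveILetI false
set_option linter.unusedSectionVars false
set_option backward.isDefEq.respectTransparency false
set_option backward.isDefEq.respectTransparency.types false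

universe u

open CategoryTheory CategoryTheory.Limits AlgebraicGeometry Opposite Abelian
open Groth.Agent.Nakai (cl_tensor cl_pow cl_one iso_of_cl)

noncomputable section

namespace Groth.Agent.LefDiv

attribute [local instance] Groth.Agent.Nakai.clMonoid
attribute [local instance] Abelian.hasFiniteBiproducts

variable {X : Scheme.{u}}

@[reassoc]
theorem toSubscheme_quotMap {I J : X.IdealSheafData} (h : I ≤ J) :
    ClSub.toSubscheme I ≫ Lef.quotMap h = ClSub.toSubscheme J := by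
  refine Scheme.Modules.hom_ext _ _ fun U => ?_
  ext t
  show ((Scheme.IdealSheafData.inclusion h ≫ I.subschemeι).app U ≫ J.subscheme.presheaf.map
    (eqToHom (show J.subschemeι ⁻¹ᵁ U = (Scheme.IdealSheafData.inclusion h ≫ I.subschemeι) ⁻¹ᵁ U by
      rw [Scheme.IdealSheafData.inclusion_subschemeι h])).op).hom t = (J.subschemeι.app U).hom t
  rw [← Scheme.Hom.congr_app (Scheme.IdealSheafData.inclusion_subschemeι h).symm U]

theorem homToFormal_of_iso {𝓙 : X.IdealSheafData} {F G : X.Modules} (e : F ≅ G)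
    (h : Lef.HomToFormalBijective 𝓙 F) : Lef.HomToFormalBijective 𝓙 G := by
  refine ⟨fun φ ψ hn => (cancel_epi e.hom).1 (h.1 _ _ fun n => by simp only [Category.assoc, hn n]), fun y hy => ?_⟩
  obtain ⟨φ, hφ⟩ := h.2 (fun n => e.hom ≫ y n) fun n => by rw [Category.assoc, hy n]
  exact ⟨e.inv ≫ φ, fun n => by rw [Category.assoc, hφ n, e.inv_hom_id_assoc]⟩

theorem homToFormal_sigma {𝓙 : X.IdealSheafData} {ι : Type} [HasCoproductsOfShape ι X.Modules]
    (P : ι → X.Modules) (h : ∀ i, Lef.HomToFormalBijective 𝓙 (P i)) : Lef.HomToFormalBijective 𝓙 (∐ P) := by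
  refine ⟨fun φ ψ hn => Sigma.hom_ext _ _ fun i => (h i).1 _ _ fun n => by simp only [Category.assoc, hn n],
    fun y hy => ?_⟩
  choose φ hφ using fun i => (h i).2 (fun n => Sigma.ι P i ≫ y n) fun n => by rw [Category.assoc, hy n]
  exact ⟨Sigma.desc φ, fun n => Sigma.hom_ext _ _ fun i => by rw [Sigma.ι_desc_assoc, hφ i n]⟩

theorem homToFormal_of_presentation {𝓙 : X.IdealSheafData} {P₁ P₀ F : X.Modules} (d : P₁ ⟶ P₀) (p : P₀ ⟶ F)
    [Epi p] (hdp : d ≫ p = 0) (hex : (ShortComplex.mk d p hdp).Exact)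
    (h₀ : Lef.HomToFormalBijective 𝓙 P₀) (h₁ : Lef.HomToFormalBijective 𝓙 P₁) :
    Lef.HomToFormalBijective 𝓙 F := by
  refine ⟨fun φ ψ hn => (cancel_epi p).1 (h₀.1 _ _ fun n => by simp only [Category.assoc, hn n]), fun y hy => ?_⟩
  obtain ⟨φ₀, hφ₀⟩ := h₀.2 (fun n => p ≫ y n) fun n => by rw [Category.assoc, hy n]
  have hd : d ≫ φ₀ = 0 := h₁.1 _ _ fun n => by
    rw [Category.assoc, hφ₀ n, reassoc_of% hdp, zero_comp, zero_comp]
  haveI : Epi (ShortComplex.mk d p hdp).g := ‹_›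
  refine ⟨hex.desc φ₀ hd, fun n => (cancel_epi p).1 ?_⟩
  rw [← Category.assoc, show p ≫ hex.desc φ₀ hd = φ₀ from hex.g_desc φ₀ hd, hφ₀ n]

theorem pow_le_pow {𝓙 : X.IdealSheafData} {n m : ℕ} (h : n ≤ m) : 𝓙 ^ (m + 1) ≤ 𝓙 ^ (n + 1) := by
  induction h with
  | refl => exact le_rfl
  | step _ ih => exact (Lef.pow_succ_le 𝓙 _).trans ih

theorem isFormal_quotMap {𝓙 : X.IdealSheafData} {D : X.Modules} {y : ∀ n, D ⟶ ClSub.quotMod (𝓙 ^ (n + 1))}
    (hy : Lef.IsFormalHom 𝓙 D y) {n m : ℕ} (hnm : n ≤ m) : y m ≫ Lef.quotMap (pow_le_pow hnm) = y n := by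
  induction hnm with
  | refl =>
    rw [show Lef.quotMap (pow_le_pow le_rfl) = 𝟙 (ClSub.quotMod (𝓙 ^ (n + 1))) from
      (cancel_epi (ClSub.toSubscheme (𝓙 ^ (n + 1)))).1 (by rw [toSubscheme_quotMap, Category.comp_id]),
      Category.comp_id]
  | @step m hm ih =>
    rw [show Lef.quotMap (pow_le_pow (Nat.le.step hm)) = Lef.quotMap (Lef.pow_succ_le 𝓙 m) ≫
      Lef.quotMap (pow_le_pow hm) from (cancel_epi (ClSub.toSubscheme (𝓙 ^ (m + 1 + 1)))).1
        (by rw [toSubscheme_quotMap, toSubscheme_quotMap_assoc, toSubscheme_quotMap]), ← Category.assoc, hy m, ih]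

section Ample

variable (k : Type u) [Field k] [X.Over (Spec (CommRingCat.of k))] [IsProper (X ↘ Spec (CommRingCat.of k))]
  {I : X.IdealSheafData} {L : X.Modules}

include k in
theorem hom_eq_zero_of_hh {P P' G : X.Modules} (hP' : PicF.IsInvertible P')
    (θ : CohB1.tensorMod P P' ≅ Coh.structureModule X)
    (h : Subsingleton (Coh.HH X (CohB1.tensorMod G P') 0)) (φ : P ⟶ G) : φ = 0 := by
  obtain ⟨e, -⟩ := CohFinite.exists_zero_equiv k (CohB1.tensorMod G P')
  haveI : Subsingleton Γ(CohB1.tensorMod G P', ⊤) := e.symm.toEquiv.subsingleton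
  refine Higgs.tmap_injective hP' ?_
  rw [← cancel_epi θ.inv]
  exact TMul.hom_ext_val (Subsingleton.elim _ _)

include k in
theorem homToFormal_twist (hL : ClSub.IsInverseOf L (ClSub.idealMod I)) (hamp : CohB1.IsAmple L)
    (hdepth : ∀ x : X, IsClosed ({x} : Set X) → (2 : ℕ∞) ≤ LocCoh.depth (X.presheaf.stalk x) (X.presheaf.stalk x))
    {P P' : X.Modules} (hP : PicF.IsInvertible P) (hP' : PicF.IsInvertible P') (a : ℕ)
    (h1 : PicF.cl P * PicF.cl P' = 1) (h2 : PicF.cl P' = PicF.cl L ^ a) :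
    Lef.HomToFormalBijective I P := by
  haveI : IsLocallyNoetherian X := LocallyOfFiniteType.isLocallyNoetherian (X ↘ Spec (CommRingCat.of k))
  obtain ⟨e⟩ := hL
  have e' : CohB1.tensorMod (ClSub.idealMod I) L ≅ Coh.structureModule X := TMul.commIso _ _ ≪≫ e
  have hi : PicF.IsInvertible (ClSub.idealMod I) := Groth.Agent.S2122.result _ _ e'
  have hC := (Groth.Agent.S8914.result I).1 hi
  have hI1 : PicF.cl (ClSub.idealMod I) * PicF.cl L = 1 := by
    rw [← cl_tensor, ← cl_one]; exact (PicGrp.cl_eq_cl_iff _ _).2 ⟨e'⟩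
  obtain ⟨m₀, hm₀⟩ := exists_vanishing k 2 hdepth hamp hi ⟨e'⟩
  have hvan : ∀ m, m₀ + a ≤ m → ∀ j, j < 2 →
      Subsingleton (Coh.HH X (CohB1.tensorMod (ClSub.idealMod (I ^ (m + 1))) P') j) := fun m hm j hj => by
    refine CohQC.hh_subsingleton_of_iso (iso_of_cl ?_).some j (hm₀ (m + 1 - a) (by omega) j hj)
    rw [cl_pow, cl_tensor, (idealMod_pow hC m).2, h2]
    conv_rhs => rw [show m + 1 = m + 1 - a + a by omega, pow_add, mul_assoc, ← mul_pow, hI1, one_pow, mul_one]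
  have hθ : ∀ {A B : X.Modules}, PicF.cl A * PicF.cl B = 1 → (CohB1.tensorMod A B ≅ Coh.structureModule X) :=
    fun h => (iso_of_cl (by rw [cl_tensor, cl_one]; exact h)).some
  have hzero : ∀ m, m₀ + a ≤ m → ∀ φ : P ⟶ Coh.structureModule X,
      φ ≫ ClSub.toSubscheme (I ^ (m + 1)) = 0 → φ = 0 := fun m hm φ h => by
    obtain ⟨l, hl⟩ : ∃ l : P ⟶ ClSub.idealMod (I ^ (m + 1)), l ≫ ClSub.idealModι (I ^ (m + 1)) = φ :=
      ⟨kernel.lift _ φ h, kernel.lift_ι _ _ _⟩
    rw [← hl, hom_eq_zero_of_hh k hP' (hθ h1) (hvan m hm 0 (by omega)) l, zero_comp]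
  refine ⟨fun φ ψ hn => sub_eq_zero.1 (hzero _ le_rfl _ (by rw [Preadditive.sub_comp, hn, sub_self])), fun y hy => ?_⟩
  haveI := SerrePn.enoughInjectives (X := X)
  haveI : HasExt.{u} X.Modules := hasExt_of_enoughInjectives X.Modules
  have hlift : ∀ m, m₀ + a ≤ m → ∃ φ : P ⟶ Coh.structureModule X, φ ≫ ClSub.toSubscheme (I ^ (m + 1)) = y m := by
    intro m hm
    haveI := SerrePn.subsingleton_ext_of_hh k hP hP' (hθ h1) (hθ (by rw [mul_comm]; exact h1)) 0
      (ClSub.idealMod (I ^ (m + 1))) (hvan m hm 1 (by omega))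
    obtain ⟨x, hx⟩ := Ext.covariant_sequence_exact₃ P (CurveRR.ideal_shortExact (I ^ (m + 1))) (Ext.mk₀ (y m))
      (zero_add 1) (Subsingleton.elim _ _)
    obtain ⟨φ, rfl⟩ := (Ext.mk₀_bijective _ _).2 x
    exact ⟨φ, (Ext.mk₀_bijective _ _).1 ((Ext.mk₀_comp_mk₀ _ _).symm.trans hx)⟩
  choose φ hφ using hlift
  let N := m₀ + a
  refine ⟨φ N le_rfl, fun n => ?_⟩
  have hN : ∀ m (hm : N ≤ m), φ m hm = φ N le_rfl := fun m hm => sub_eq_zero.1 (hzero N le_rfl _ (by
    rw [Preadditive.sub_comp, hφ N le_rfl, ← toSubscheme_quotMap (pow_le_pow hm), ← Category.assoc, hφ m hm,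
      isFormal_quotMap hy hm, sub_self]))
  rw [← hN (max n N) (le_max_right _ _), ← toSubscheme_quotMap (pow_le_pow (le_max_left n N)), ← Category.assoc,
    hφ, isFormal_quotMap hy (le_max_left n N)]

include k in
/-- Morphisms from a coherent module to the structure sheaf are the morphisms to its completion. -/
theorem homToFormal_coherent (hL : ClSub.IsInverseOf L (ClSub.idealMod I)) (hamp : CohB1.IsAmple L)
    (hdepth : ∀ x : X, IsClosed ({x} : Set X) → (2 : ℕ∞) ≤ LocCoh.depth (X.presheaf.stalk x) (X.presheaf.stalk x))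
    (F : X.Modules) (hF : Coh.IsCoh F) : Lef.HomToFormalBijective I F := by
  haveI : IsLocallyNoetherian X := LocallyOfFiniteType.isLocallyNoetherian (X ↘ Spec (CommRingCat.of k))
  obtain ⟨N, d, r, hd, hr, hrc, ⟨e⟩⟩ :=
    AmpleEmb.exists_closedImmersion_projSpace (X ↘ Spec (CommRingCat.of k)) hamp
  haveI := hrc
  have hP : ∀ M : ℕ, Lef.HomToFormalBijective I (SerrePn.Lx r (-(M : ℤ))) := fun M => by
    obtain ⟨e0⟩ := SerrePn.exists_thetaX r (-(M : ℤ)) (M : ℤ) (neg_add_cancel _)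
    refine homToFormal_twist k hL hamp hdepth (SerrePn.isInvertible_Lx r _) (SerrePn.isInvertible_Lx r (M : ℤ))
      (d * M) (by rw [← cl_tensor, ← cl_one]; exact (PicGrp.cl_eq_cl_iff _ _).2 ⟨e0⟩) ?_
    show PicF.cl ((Scheme.Modules.pullback r).obj (Twist.twistProjSpace N k (M : ℤ))) = _
    rw [Nakai.cl_pull_twist, (PicGrp.cl_eq_cl_iff _ _).2 ⟨e⟩, cl_pow, ← pow_mul]
  have hcoh : ∀ (M c : ℕ), Coh.IsCoh (∐ fun _ : Fin c => SerrePn.Lx r (-(M : ℤ))) := fun M c =>
    K0Coh.isCoh_of_iso (biproduct.isoCoproduct _) (Devissage.isCoh_biproduct _ fun _ => SerrePn.isCoh_Lx r _)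
  obtain ⟨M, c, p, -, hp⟩ := SerrePn.exists_presentationX r F hF 0
  have hK : Coh.IsCoh (kernel p) := Groth.Agent.QC.isCoh_kernel (hcoh M c) hF.1 p
  obtain ⟨M', c', q, -, hq⟩ := SerrePn.exists_presentationX r (kernel p) hK 0
  refine homToFormal_of_presentation (q ≫ kernel.ι p) p (by rw [Category.assoc, kernel.condition, comp_zero]) ?_
    (homToFormal_sigma _ fun _ => hP M) (homToFormal_sigma _ fun _ => hP M')
  have h0 : (ShortComplex.mk (kernel.ι p) p (kernel.condition p)).Exact :=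
    ShortComplex.exact_of_f_is_kernel _ (kernelIsKernel p)
  let φ : ShortComplex.mk (q ≫ kernel.ι p) p (by rw [Category.assoc, kernel.condition, comp_zero]) ⟶
      ShortComplex.mk (kernel.ι p) p (kernel.condition p) := { τ₁ := q, τ₂ := 𝟙 _, τ₃ := 𝟙 _ }
  haveI : Epi φ.τ₁ := hq
  haveI : IsIso φ.τ₂ := IsIso.id _
  haveI : Mono φ.τ₃ := inferInstanceAs (Mono (𝟙 _))
  exact (ShortComplex.exact_iff_of_epi_of_isIso_of_mono φ).2 h0

end Ample

end Groth.Agent.LefDiv
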